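import Cfsg.Agent.Lib.KnownB.Sp62.Chain

/-!
Checked stabiliser chains on codes, when codes of inverses are determined by products.
-/

set_option autoImplicit false

namespace CfsgLib.KnownB.O8Mult

open CfsgLib.KnownB.Mult CfsgLib.KnownB.Sp62

variable {Q : Type} [Group Q] {C : Type} (K : Code Q C) (pt : ℕ → C → ℕ) (fin finG : List C)

/-- the checks at one level -/
def lvlOK (L : Lvl C) (r : List (Lvl C)) : Bool :=
  (L.trans.all fun t => K.eqc (evL K L.gens t.1.1) t.1.2 && K.eqc (K.mul t.2.2 t.1.2) K.one) &&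
    (L.trans.any fun t => K.eqc K.one t.1.2) &&
    ((ngens finG r).all fun g => L.next.any fun w => K.eqc (evL K L.gens w) g) &&
    L.gens.all fun g => L.trans.all fun t => sift K pt fin (L :: r) (K.mul g t.1.2)

/-- all checks -/
def chainOK : List (Lvl C) → Bool
  | [] => fin.any (K.eqc K.one) && (fin.all fun f => finG.all fun g => fin.any (K.eqc (K.mul g f))) &&
      fin.all fun f => K.eqc f K.one || finG.any (K.eqc f)
  | L :: r => lvlOK K pt fin finG L r && chainOK r

/-- codes of inverses are determined by products -/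
def InvRespects : Prop := ∀ a x y, K.rep a x → K.eqc (K.mul y x) K.one = true → K.rep a⁻¹ y

variable {K pt fin finG} (hK : Respects K)

include hK

theorem has_next {L : Lvl C} {r : List (Lvl C)} (h : chainOK K pt fin finG (L :: r) = true)
    (hg : Has K L.gens) : Has K (ngens finG r) ∧ hof K (ngens finG r) ≤ hof K L.gens := by
  simp only [chainOK, lvlOK, Bool.and_eq_true, List.all_eq_true, List.any_eq_true] at h
  have hn := h.1.1.2
  have hh : Has K (ngens finG r) := by
    intro g hgm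
    obtain ⟨w, -, hw⟩ := hn g hgm
    obtain ⟨b, -, hr⟩ := exists_evL K hg w
    exact ⟨b, hK _ _ _ hr hw⟩
  refine ⟨hh, (Subgroup.closure_le _).2 ?_⟩
  rintro a ⟨g, hgm, ha⟩
  obtain ⟨w, -, hw⟩ := hn g hgm
  exact mem_hof_of_word K hg ha hw

theorem chain_spec [Finite Q] (hI : InvRespects K) : ∀ (Ls : List (Lvl C)), chainOK K pt fin finG Ls = true →
    Has K (ngens finG Ls) →
      (∀ a x, K.rep a x → sift K pt fin Ls x = true → a ∈ hof K (ngens finG Ls)) ∧
      ∀ a ∈ hof K (ngens finG Ls), InForm K fin finG Ls a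
  | [], h, hg => by
    simp only [chainOK, Bool.and_eq_true, List.all_eq_true, List.any_eq_true, Bool.or_eq_true] at h
    obtain ⟨⟨⟨f1, hf1, e1⟩, hcl⟩, hsub⟩ := h
    refine ⟨fun a x ha hx => ?_, fun a ha => ?_⟩
    · obtain ⟨f, hf, hxf⟩ := List.any_eq_true.1 hx
      rcases hsub f hf with e | ⟨g, hgm, e⟩
      · rw [(K.eq_iff (hK _ _ _ ha hxf) K.rep_one).1 e]
        exact one_mem _
      · exact Subgroup.subset_closure ⟨g, hgm, hK _ _ _ (hK _ _ _ ha hxf) e⟩
    · refine closed_finite (S := {a | InForm K fin finG [] a}) ?_ ?_ a ha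
      · exact ⟨f1, hf1, hK _ _ _ K.rep_one e1⟩
      · rintro g ⟨x, hx, hgx⟩ s ⟨f, hf, hsf⟩
        obtain ⟨f', hf', e⟩ := hcl f hf x hx
        exact ⟨f', hf', hK _ _ _ (K.rep_mul hgx hsf) e⟩
  | L :: r, h, hg => by
    obtain ⟨hhas, hle⟩ := has_next hK h hg
    have h0 := h
    simp only [chainOK, lvlOK, Bool.and_eq_true, List.all_eq_true, List.any_eq_true] at h
    obtain ⟨⟨⟨⟨ht, t1, ht1, e1⟩, -⟩, hcl⟩, hr0⟩ := h
    obtain ⟨hsound, -⟩ := chain_spec hI r hr0 hhas
    have htrans : ∀ t ∈ L.trans, ∃ u v, K.rep u t.1.2 ∧ K.rep v t.2.2 ∧ v * u = 1 ∧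
        u ∈ hof K L.gens := by
      intro t hm
      obtain ⟨ew, einv⟩ := ht t hm
      obtain ⟨u, -, hb⟩ := exists_evL K hg t.1.1
      have hu := hK _ _ _ hb ew
      exact ⟨u, u⁻¹, hu, hI _ _ _ hu einv, inv_mul_cancel u, mem_hof_of_word K hg hu ew⟩
    have split : ∀ a x, K.rep a x → sift K pt fin (L :: r) x = true →
        ∃ t ∈ L.trans, ∃ u h, K.rep u t.1.2 ∧ h ∈ hof K (ngens finG r) ∧ a = u * h ∧
          u ∈ hof K L.gens := by
      intro a x ha hx
      rw [sift] at hx
      split at hx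
      · exact absurd hx Bool.false_ne_true
      next t hfind =>
        have hm := List.mem_of_find?_eq_some hfind
        obtain ⟨u, v, hu, hv, hvu, huH⟩ := htrans t hm
        refine ⟨t, hm, u, v * a, hu, hsound _ _ (K.rep_mul hv ha) hx, ?_, huH⟩
        rw [eq_inv_of_mul_eq_one_left hvu, mul_inv_cancel_left]
    refine ⟨fun a x ha hx => ?_, fun a ha => ?_⟩
    · obtain ⟨t, -, u, h', -, hh', rfl, huH⟩ := split a x ha hx
      exact mul_mem huH (hle hh')
    · refine closed_finite (S := {a | InForm K fin finG (L :: r) a}) ?_ ?_ a ha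
      · obtain ⟨u, v, hu, -, -, -⟩ := htrans t1 ht1
        exact ⟨t1, ht1, u, 1, hu, one_mem _, by rw [mul_one, ← (K.eq_iff K.rep_one hu).1 e1]⟩
      · rintro g ⟨x, hx, hgx⟩ s ⟨t, hm, u, h', hu, hh', rfl⟩
        obtain ⟨t', hm', u', h'', hu', hh'', he, -⟩ :=
          split (g * u) _ (K.rep_mul hgx hu) (hcl x hx t hm)
        exact ⟨t', hm', u', h'' * h', hu', mul_mem hh'' hh', by rw [← mul_assoc, he, mul_assoc]⟩

end CfsgLib.KnownB.O8Mult
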